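import Cfsg.Agent.H319.One.PslB
import Cfsg.Agent.H723.TI.Defs
import Cfsg.Agent.H319.LB.Base
import Cfsg.Agent.TwoFusion.SLTwoFacts
import Cfsg.Agent.PLocal.PSolvable
import Cfsg.Agent.Lib.PSolvable

/-!
# S4879: `PSL₂(pⁿ)`, `n ≥ 2` (helper243)

* `ti` : the Sylow `p`-subgroups are TI;
* `psl2_of_rank` : the row, from the TI equality of the ranks.
-/

set_option autoImplicit false
set_option linter.unusedSectionVars false

namespace Cfsg.Agent.H243.LB

open Cfsg Subgroup Matrix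
open scoped Pointwise
open Cfsg.Agent.H741.One (OneC)
open Cfsg.Agent.H319.One.PslA Cfsg.Agent.H319.One.PslB Cfsg.Agent.ClassicalGeometry.PSL2Basic

universe u

section mat

variable {F : Type} [Field F]

/-- the diagonal matrices -/
def dh (F : Type) [Field F] : Fˣ →* SpecialLinearGroup (Fin 2) F where
  toFun a := ⟨!![(a : F), 0; 0, ((a⁻¹ : Fˣ) : F)], by simp [Matrix.det_fin_two]⟩
  map_one' := by
    apply Subtype.ext
    change !![((1 : Fˣ) : F), 0; 0, (((1 : Fˣ)⁻¹ : Fˣ) : F)] = 1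
    simp [Matrix.one_fin_two]
  map_mul' a b := by
    apply Subtype.ext
    change !![((a * b : Fˣ) : F), 0; 0, (((a * b)⁻¹ : Fˣ) : F)] =
      !![(a : F), 0; 0, ((a⁻¹ : Fˣ) : F)] * !![(b : F), 0; 0, ((b⁻¹ : Fˣ) : F)]
    rw [Matrix.mul_fin_two]
    ext i j
    fin_cases i <;> fin_cases j <;> simp [mul_comm]

theorem dh_uu (a : Fˣ) : dh F a * uu 1 = uu ((a : F) ^ 2) * dh F a := by
  apply Subtype.ext
  change !![(a : F), 0; 0, ((a⁻¹ : Fˣ) : F)] * !![1, 1; 0, 1] =
    !![1, (a : F) ^ 2; 0, 1] * !![(a : F), 0; 0, ((a⁻¹ : Fˣ) : F)]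
  rw [Matrix.mul_fin_two, Matrix.mul_fin_two]
  ext i j
  fin_cases i <;> fin_cases j <;> simp [pow_two]

/-- the entry (0,0) -/
theorem sq_of_dh {a : Fˣ} {b : F} (h : dh F a = uu b ∨ dh F a = -uu b) : a ^ 2 = 1 := by
  rcases h with h | h
  · have h2 : (a : F) = 1 := congrFun (congrFun (congrArg Subtype.val h) 0) 0
    apply Units.ext
    rw [Units.val_pow_eq_pow_val, h2, one_pow, Units.val_one]
  · have h2 : (a : F) = -1 := congrFun (congrFun (congrArg Subtype.val h) 0) 0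
    apply Units.ext
    rw [Units.val_pow_eq_pow_val, h2, Units.val_one]
    ring

variable [Fintype F] {X : Type u} [Group X] [Finite X] {p n : ℕ} (e : X ≃* ProjectiveSpecialLinearGroup (Fin 2) F)

/-- the centralizer of the transvection -/
theorem eq_of_commute (hodd : Odd (Fintype.card F)) {g : X} (h : Commute g (pr e (uu 1))) :
    ∃ b : F, g = pr e (uu b) := by
  obtain ⟨s, rfl⟩ := pr_surj e g
  have h1 : pr e (s * uu 1 * s⁻¹ * (uu 1)⁻¹) = 1 := by
    rw [map_mul, map_mul, map_mul, map_inv, map_inv, h.eq]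
    group
  obtain ⟨b, rfl | rfl⟩ := comm_uu ((two_ne_zero_iff_odd F).2 hodd) ((pr_eq_one e).1 h1)
  · exact ⟨b, rfl⟩
  · exact ⟨b, pr_neg e _⟩

/-- the centralizer of the transvection is abelian -/
theorem comm_of_commute (hodd : Odd (Fintype.card F)) {g h : X} (hg : Commute g (pr e (uu 1)))
    (hh : Commute h (pr e (uu 1))) : Commute g h := by
  obtain ⟨b, rfl⟩ := eq_of_commute e hodd hg
  obtain ⟨c, rfl⟩ := eq_of_commute e hodd hh
  show pr e (uu b) * pr e (uu c) = pr e (uu c) * pr e (uu b)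
  rw [← map_mul, ← map_mul, uu_mul, uu_mul, add_comm]

/-- the torus element -/
theorem dvd_of_commute (hodd : Odd (Fintype.card F)) {a : Fˣ} {k : ℕ}
    (h : Commute (pr e (dh F a) ^ k) (pr e (uu 1))) : orderOf a ∣ 2 * k := by
  rw [← map_pow, ← map_pow] at h
  have h1 : pr e (dh F (a ^ k) * uu 1 * (dh F (a ^ k))⁻¹ * (uu 1)⁻¹) = 1 := by
    rw [map_mul, map_mul, map_mul, map_inv, map_inv, h.eq]
    group
  obtain ⟨b, hb⟩ := comm_uu ((two_ne_zero_iff_odd F).2 hodd) ((pr_eq_one e).1 h1)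
  apply orderOf_dvd_of_pow_eq_one
  rw [mul_comm, pow_mul]
  exact sq_of_dh hb

end mat

section grp

variable {G : Type u} [Group G] [Finite G] {p n : ℕ} [Fact p.Prime] {T : Subgroup G} [T.Normal]
  {F : Type} [Field F] [Fintype F] (e : T ≃* ProjectiveSpecialLinearGroup (Fin 2) F)

/-- the transvection in `G` -/
noncomputable def x0 : G := (pr e (uu 1) : T)

theorem order_x0 (hF : Fintype.card F = p ^ n) : orderOf (x0 e) = p := by
  unfold x0
  rw [Subgroup.orderOf_coe]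
  exact orderOf_x0 e hF

theorem x0_ne (hF : Fintype.card F = p ^ n) : x0 e ≠ 1 := by
  intro h
  have h1 := order_x0 e hF
  rw [h, orderOf_one] at h1
  exact (Fact.out : p.Prime).one_lt.ne h1

variable (hconj : OneC p G) (hF : Fintype.card F = p ^ n) (hodd : Odd (Fintype.card F))
include e hconj hF hodd

theorem pow_of_comm {x : G} (hx : x ≠ 1) (hxp : ∃ k : ℕ, orderOf x = p ^ k) {g : G} (hg : g ∈ T) (h : Commute g x) :
    g ^ p = 1 := by
  obtain ⟨c, hc⟩ := isConj_iff.1 (hconj x (x0 e) hx (x0_ne e hF) hxp ⟨1, by rw [order_x0 e hF, pow_one]⟩)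
  have hgT : c * g * c⁻¹ ∈ T := (inferInstance : T.Normal).conj_mem g hg c
  have h1 : Commute (⟨c * g * c⁻¹, hgT⟩ : T) (pr e (uu 1)) := by
    apply Subtype.ext
    change c * g * c⁻¹ * x0 e = x0 e * (c * g * c⁻¹)
    rw [← hc]
    calc c * g * c⁻¹ * (c * x * c⁻¹) = c * (g * x) * c⁻¹ := by group
      _ = c * (x * g) * c⁻¹ := by rw [h.eq]
      _ = _ := by group
  have h2 := congrArg Subtype.val (pow_of_commute e hF hodd h1)
  change (c * g * c⁻¹) ^ p = 1 at h2
  rw [conj_pow] at h2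
  exact conj_eq_one_iff.1 h2

theorem comm_of_comm {x : G} (hx : x ≠ 1) (hxp : ∃ k : ℕ, orderOf x = p ^ k) {g h : G} (hg : g ∈ T) (hh : h ∈ T)
    (hgx : Commute g x) (hhx : Commute h x) : Commute g h := by
  obtain ⟨c, hc⟩ := isConj_iff.1 (hconj x (x0 e) hx (x0_ne e hF) hxp ⟨1, by rw [order_x0 e hF, pow_one]⟩)
  have hgT : c * g * c⁻¹ ∈ T := (inferInstance : T.Normal).conj_mem g hg c
  have hhT : c * h * c⁻¹ ∈ T := (inferInstance : T.Normal).conj_mem h hh c
  have key : ∀ (w : G) (hw : c * w * c⁻¹ ∈ T), Commute w x → Commute (⟨c * w * c⁻¹, hw⟩ : T) (pr e (uu 1)) := by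
    intro w hw hwx
    apply Subtype.ext
    change c * w * c⁻¹ * x0 e = x0 e * (c * w * c⁻¹)
    rw [← hc]
    calc c * w * c⁻¹ * (c * x * c⁻¹) = c * (w * x) * c⁻¹ := by group
      _ = c * (x * w) * c⁻¹ := by rw [hwx.eq]
      _ = _ := by group
  have h1 := congrArg Subtype.val (comm_of_commute e hodd (key g hgT hgx) (key h hhT hhx)).eq
  change c * g * c⁻¹ * (c * h * c⁻¹) = c * h * c⁻¹ * (c * g * c⁻¹) at h1
  have h2 : c * (g * h) * c⁻¹ = c * (h * g) * c⁻¹ := by
    calc c * (g * h) * c⁻¹ = c * g * c⁻¹ * (c * h * c⁻¹) := by group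
      _ = c * h * c⁻¹ * (c * g * c⁻¹) := h1
      _ = _ := by group
  exact mul_left_cancel (mul_right_cancel h2)

variable (hTp : ∀ x : G, (∃ k : ℕ, orderOf x = p ^ k) → x ∈ T)
include hTp

theorem le_T (P : Sylow p G) : (P : Subgroup G) ≤ T := by
  intro x hx
  apply hTp
  obtain ⟨k, hk⟩ := (IsPGroup.iff_orderOf.1 P.isPGroup') ⟨x, hx⟩
  exact ⟨k, by rw [← hk]; exact Subgroup.orderOf_coe (⟨x, hx⟩ : (P : Subgroup G))⟩

theorem sylow_comm (P : Sylow p G) {g h : G} (hg : g ∈ (P : Subgroup G)) (hh : h ∈ (P : Subgroup G)) :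
    Commute g h := by
  have hp : p.Prime := Fact.out
  have hne : Nontrivial (P : Subgroup G) := by
    rw [Subgroup.nontrivial_iff_ne_bot]
    apply P.ne_bot_of_dvd_card
    rw [← order_x0 e hF]
    exact orderOf_dvd_natCard _
  have := P.isPGroup'.center_nontrivial
  obtain ⟨⟨z, hzc⟩, hz1⟩ := exists_ne (1 : center (P : Subgroup G))
  have hz : ((z : (P : Subgroup G)) : G) ≠ 1 := by
    intro h1
    exact hz1 (Subtype.ext (Subtype.ext h1))
  obtain ⟨k, hk⟩ := (IsPGroup.iff_orderOf.1 P.isPGroup') z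
  have hzp : ∃ k : ℕ, orderOf ((z : (P : Subgroup G)) : G) = p ^ k := ⟨k, by rw [Subgroup.orderOf_coe, hk]⟩
  have hcz : ∀ w : (P : Subgroup G), Commute (w : G) (z : G) := fun w =>
    congrArg Subtype.val (mem_center_iff.1 hzc w)
  exact comm_of_comm e hconj hF hodd hz hzp (le_T e hconj hF hodd hTp P hg) (le_T e hconj hF hodd hTp P hh)
    (hcz ⟨g, hg⟩) (hcz ⟨h, hh⟩)

/-- a Sylow subgroup is the centralizer of its nontrivial elements -/
theorem sylow_eq (P : Sylow p G) {x : G} (hx : x ∈ (P : Subgroup G)) (hx1 : x ≠ 1) :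
    T ⊓ centralizer ({x} : Set G) = P := by
  have hxp : ∃ k : ℕ, orderOf x = p ^ k := by
    obtain ⟨k, hk⟩ := (IsPGroup.iff_orderOf.1 P.isPGroup') ⟨x, hx⟩
    exact ⟨k, by rw [← hk]; exact (Subgroup.orderOf_coe (⟨x, hx⟩ : (P : Subgroup G))).symm ▸ rfl⟩
  apply P.is_maximal'
  · intro g
    refine ⟨1, Subtype.ext ?_⟩
    rw [pow_one]
    exact pow_of_comm e hconj hF hodd hx1 hxp g.2.1 (mem_centralizer_singleton_iff.1 g.2.2)
  · intro g hg
    exact ⟨le_T e hconj hF hodd hTp P hg, mem_centralizer_singleton_iff.2 (sylow_comm e hconj hF hodd hTp P hg hx).eq⟩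

/-- **the Sylow subgroups are TI** -/
theorem ti (P : Sylow p G) : H723.TI.TIs P := by
  intro g hg
  by_contra hne
  apply hg
  obtain ⟨⟨x, hx⟩, hx1'⟩ := Subgroup.ne_bot_iff_exists_ne_one.1 hne
  have hx1 : x ≠ 1 := fun h => hx1' (Subtype.ext h)
  have h1 := sylow_eq e hconj hF hodd hTp P hx.1 hx1
  have h2 := sylow_eq e hconj hF hodd hTp (g • P) (x := x) (by rw [Sylow.coe_subgroup_smul]; exact hx.2) hx1
  rw [h1] at h2
  have h3 : g • P = P := Sylow.ext h2.symm
  exact Sylow.smul_eq_iff_mem_normalizer.1 h3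

end grp

section five

/-- the elements of `SL₂(5)` have order less than 60 -/
theorem order_lt (g : SpecialLinearGroup (Fin 2) (ZMod 5)) : orderOf g < 60 := by
  have : Fact (Nat.Prime 5) := ⟨by norm_num⟩
  by_contra h
  push Not at h
  have hcard : Nat.card (SpecialLinearGroup (Fin 2) (ZMod 5)) = 120 := by
    rw [card_SL2, ZMod.card]
    norm_num
  have hperf := Cfsg.Agent.TwoFusion.SLTwoFacts.commutator_eq_top (F := ZMod 5) (by rw [ZMod.card]; norm_num)
  have h1 := (zpowers g).card_mul_index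
  rw [Nat.card_zpowers, hcard] at h1
  have h2 : (zpowers g).index ≤ 2 := by
    by_contra h3
    push Not at h3
    have := Nat.mul_le_mul h h3
    omega
  have h0 : (zpowers g).index ≠ 0 := Subgroup.index_ne_zero_of_finite
  have h3 : zpowers g = ⊤ := by
    rcases (by omega : (zpowers g).index = 1 ∨ (zpowers g).index = 2) with h4 | h4
    · exact Subgroup.index_eq_one.1 h4
    · have hn : (zpowers g).Normal := Subgroup.normal_of_index_eq_two h4
      have hq : Nat.card (SpecialLinearGroup (Fin 2) (ZMod 5) ⧸ zpowers g) = 2 := h4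
      have : Fact (Nat.Prime 2) := ⟨Nat.prime_two⟩
      have hc : IsCyclic (SpecialLinearGroup (Fin 2) (ZMod 5) ⧸ zpowers g) := isCyclic_of_prime_card hq
      rw [eq_top_iff, ← hperf, _root_.commutator_def, Subgroup.commutator_le]
      intro a _ b _
      rw [← QuotientGroup.eq_one_iff]
      obtain ⟨c, hc⟩ := hc.exists_generator
      obtain ⟨i, hi⟩ := hc (QuotientGroup.mk' _ a)
      obtain ⟨j, hj⟩ := hc (QuotientGroup.mk' _ b)
      change QuotientGroup.mk' (zpowers g) _ = 1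
      rw [map_commutatorElement, commutatorElement_eq_one_iff_commute, ← hi, ← hj]
      exact ((Commute.refl c).zpow_left i).zpow_right j
  have h4 : commutator (SpecialLinearGroup (Fin 2) (ZMod 5)) ≤ ⊥ := by
    rw [_root_.commutator_def, Subgroup.commutator_le]
    intro a _ b _
    have ha : a ∈ zpowers g := by rw [h3]; exact mem_top _
    have hb : b ∈ zpowers g := by rw [h3]; exact mem_top _
    obtain ⟨i, rfl⟩ := ha
    obtain ⟨j, rfl⟩ := hb
    rw [mem_bot, commutatorElement_eq_one_iff_commute]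
    exact ((Commute.refl g).zpow_left i).zpow_right j
  rw [hperf] at h4
  have h5 : Nat.card (⊤ : Subgroup (SpecialLinearGroup (Fin 2) (ZMod 5))) ≤
      Nat.card (⊥ : Subgroup (SpecialLinearGroup (Fin 2) (ZMod 5))) := Subgroup.card_le_of_le h4
  rw [Subgroup.card_top, Subgroup.card_bot, hcard] at h5
  omega

end five

section final

variable {G : Type u} [Group G] [Finite G] {p n : ℕ} [Fact p.Prime] {M : Ideal AlgInt}

/-- **The row, from the equality of the ranks.** -/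
theorem psl2_of_rank (hM : IsPModular p M) (hconj : OneC p G) (T : Subgroup G) [T.Normal]
    (hTp : ∀ x : G, (∃ k : ℕ, orderOf x = p ^ k) → x ∈ T)
    {F : Type} [Field F] [Fintype F] (hF : Fintype.card F = p ^ n) (h2 : 2 ≤ n) (h3 : 3 ≤ p)
    (e : ↥T ≃* ProjectiveSpecialLinearGroup (Fin 2) F) (P : Sylow p G) (hxP : x0 e ∈ (P : Subgroup G))
    (hr : blockRank p (principalBlock M G) =
      blockRank p (principalBlock M (normalizer ((P : Subgroup G) : Set G))))
    (hN1 : OneC p (normalizer ((P : Subgroup G) : Set G))) : p ≤ blockRank p (principalBlock M G) := by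
  classical
  have hp : p.Prime := Fact.out
  have hodd : Odd (Fintype.card F) := by
    rw [hF]
    exact (hp.odd_of_ne_two (by omega)).pow
  have hti : H723.TI.TIs P := ti e hconj hF hodd hTp P
  obtain ⟨N, hNd⟩ : ∃ N : Subgroup G, N = normalizer ((P : Subgroup G) : Set G) := ⟨_, rfl⟩
  rw [← hNd] at hr hN1
  have hPN : (P : Subgroup G) ≤ N := by rw [hNd]; exact le_normalizer
  obtain ⟨PN, hPNd⟩ : ∃ PN : Subgroup N, PN = (P : Subgroup G).subgroupOf N := ⟨_, rfl⟩
  have hPNn : PN.Normal := by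
    constructor
    intro u hu g
    rw [hPNd, mem_subgroupOf] at hu ⊢
    have hg : (g : G) ∈ normalizer ((P : Subgroup G) : Set G) := by
      rw [← hNd]
      exact g.2
    exact (mem_normalizer_iff.1 hg _).1 hu
  have hPNp : IsPGroup p PN := by
    rw [hPNd]
    exact P.isPGroup'.of_equiv (Subgroup.subgroupOfEquivOfLe hPN).symm
  have hPNi : ¬ p ∣ PN.index := by
    rw [hPNd]
    exact (P.subtype hPN).not_dvd_index
  have hPNc : Nat.card PN = Nat.card P := by
    rw [hPNd]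
    exact Nat.card_congr (Subgroup.subgroupOfEquivOfLe hPN).toEquiv
  -- the `p'`-core
  obtain ⟨O, hO⟩ : ∃ O : Subgroup N, O = pPrimeCore p N := ⟨_, rfl⟩
  have hOn : O.Normal := by rw [hO]; exact Lib.Cores.pPrimeCore_normal p
  have hOc : (Nat.card O).Coprime p := by rw [hO]; exact Lib.Cores.pPrimeCore_coprime (G := N) p
  have hOp : ¬ p ∣ Nat.card O := (Nat.Prime.coprime_iff_not_dvd hp).1 hOc.symm
  have hlz : H319.LB.lz p M N = H319.LB.lz p M (N ⧸ O) := H319.LB.lz_quot hM O hOp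
  obtain ⟨m, hm⟩ := IsPGroup.iff_card.1 hPNp
  have hdisj : Disjoint O PN := by
    apply Subgroup.disjoint_of_coprime_natCard
    rw [hm]
    exact hOc.pow_right m
  -- the order
  have hq : Fintype.card F ∣ Nat.card G :=
    ((H319.One.PslB.dvd_card e).trans (Subgroup.card_subgroup_dvd_card _)).trans (Subgroup.card_subgroup_dvd_card T)
  have hp2 : p ^ 2 ∣ Nat.card P := by
    apply Sylow.pow_dvd_card_of_pow_dvd_card P
    exact ((pow_dvd_pow p h2).trans (by rw [hF])).trans hq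
  have hR2 : p ^ 2 ∣ Nat.card (N ⧸ O) := by
    have h4 : p ^ 2 ∣ Nat.card N := by
      rw [← hPNc] at hp2
      exact hp2.trans (Subgroup.card_subgroup_dvd_card _)
    rw [Subgroup.card_eq_card_quotient_mul_card_subgroup O] at h4
    exact (Nat.Coprime.pow_left 2 hOc.symm).dvd_of_dvd_mul_right h4
  have hf : Function.Surjective (QuotientGroup.mk' O) := QuotientGroup.mk'_surjective _
  have hR1 : OneC p (N ⧸ O) := H697.PSolvA.hconj_map _ hf hN1
  have hRc : pPrimeCore p (N ⧸ O) = ⊥ := by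
    subst hO
    exact Lib.Cores.pPrimeCore_quotient_pPrimeCore (G := N) p
  have hNs : IsPSolvable p N := by
    refine Cfsg.Agent.Lib.PSolvable.IsPSolvable_of_quotient p PN (Or.inl ⟨m, hm⟩) ?_
    refine Cfsg.Agent.PLocal.PSolvable.isPSolvable_of_coprime ?_
    exact ((Nat.Prime.coprime_iff_not_dvd hp).2 hPNi).symm
  have hRs : IsPSolvable p (N ⧸ O) := Cfsg.Agent.Lib.PSolvable.IsPSolvable_of_surjective p hNs _ hf
  rcases H319.LB.goal_psolv hM hRs hRc hR2 hR1 with h | ⟨h11, -, hcard, H, -, ⟨φ⟩⟩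
  · rw [hr]
    rw [← hlz] at h
    exact h
  exfalso
  -- the torus element
  obtain ⟨a, ha⟩ := IsCyclic.exists_generator (α := Fˣ)
  have hoa : orderOf a = Fintype.card F - 1 := by
    rw [orderOf_eq_card_of_forall_mem_zpowers ha, Nat.card_units, Nat.card_eq_fintype_card]
  obtain ⟨y, hy⟩ : ∃ y : G, y = ((pr e (dh F a) : T) : G) := ⟨_, rfl⟩
  have hyN : y ∈ N := by
    rw [hNd]
    by_contra hyn
    have h4 := hti y hyn
    have h5 : y * x0 e * y⁻¹ = ((pr e (uu ((a : F) ^ 2)) : T) : G) := by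
      rw [hy]
      unfold x0
      rw [← Subgroup.coe_mul, ← Subgroup.coe_inv, ← Subgroup.coe_mul, ← map_mul, ← map_inv, ← map_mul, dh_uu,
        mul_inv_cancel_right]
    have h6 : y * x0 e * y⁻¹ ∈ (P : Subgroup G) := by
      rw [← sylow_eq e hconj hF hodd hTp P hxP (x0_ne e hF), h5]
      refine ⟨SetLike.coe_mem _, mem_centralizer_singleton_iff.2 ?_⟩
      unfold x0
      rw [← Subgroup.coe_mul, ← Subgroup.coe_mul, ← map_mul, ← map_mul, uu_mul, uu_mul, add_comm]
    have h7 : y * x0 e * y⁻¹ ∈ (P : Subgroup G) ⊓ (MulAut.conj y • (P : Subgroup G)) :=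
      ⟨h6, ⟨x0 e, hxP, rfl⟩⟩
    rw [h4, mem_bot, conj_eq_one_iff] at h7
    exact x0_ne e hF h7
  subst h11
  obtain ⟨Pb, hPb⟩ : ∃ Pb : Subgroup (N ⧸ O), Pb = PN.map (QuotientGroup.mk' O) := ⟨_, rfl⟩
  have hPbn : Pb.Normal := by rw [hPb]; exact hPNn.map _ hf
  have hPbp : IsPGroup 11 Pb := by rw [hPb]; exact hPNp.map _
  have hPbi : ¬ 11 ∣ Pb.index := by
    intro h4
    apply hPNi
    refine h4.trans ?_
    rw [hPb]
    exact Subgroup.index_map_dvd PN hf
  have hPbc : Nat.card Pb = 121 := by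
    obtain ⟨k, hk⟩ := IsPGroup.iff_card.1 hPbp
    have h4 := Pb.card_mul_index
    rw [hcard] at h4
    apply Nat.dvd_antisymm
    · have h5 : Nat.card Pb ∣ 121 * 120 := Dvd.intro _ h4
      rw [hk] at h5 ⊢
      exact (Nat.Coprime.pow_left k (by norm_num : Nat.Coprime 11 120)).dvd_of_dvd_mul_right h5
    · have h5 : 11 ^ 2 ∣ Nat.card Pb * Pb.index := by rw [h4]; norm_num
      exact (Nat.Coprime.pow_left 2 ((Nat.Prime.coprime_iff_not_dvd hp).2 hPbi)).dvd_of_dvd_mul_right h5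
  have hQc : Nat.card ((N ⧸ O) ⧸ Pb) = 120 := by
    have h4 := Subgroup.card_eq_card_quotient_mul_card_subgroup Pb
    rw [hcard, hPbc] at h4
    omega
  have hHc : Nat.card H = 120 := by
    have : Fact (Nat.Prime 5) := ⟨by norm_num⟩
    rw [Nat.card_congr φ.toEquiv, card_SL2, ZMod.card]
    norm_num
  obtain ⟨ψ, hψ⟩ : ∃ ψ : H →* (N ⧸ O) ⧸ Pb, ψ = (QuotientGroup.mk' Pb).comp H.subtype := ⟨_, rfl⟩
  have hψi : Function.Injective ψ := by
    rw [injective_iff_map_eq_one]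
    intro u hu
    rw [hψ] at hu
    have h4 : (u : N ⧸ O) ∈ Pb := (QuotientGroup.eq_one_iff _).1 hu
    have h5 : (u : N ⧸ O) ∈ H ⊓ Pb := ⟨u.2, h4⟩
    rw [disjoint_iff.1 (Subgroup.disjoint_of_coprime_natCard (by rw [hHc, hPbc]; norm_num))] at h5
    exact Subtype.ext h5
  have hψb : Function.Bijective ψ :=
    (Nat.bijective_iff_injective_and_card ψ).2 ⟨hψi, by rw [hHc, hQc]⟩
  obtain ⟨w, hw⟩ := hψb.2 (QuotientGroup.mk' Pb (QuotientGroup.mk' O ⟨y, hyN⟩))
  have how : orderOf (φ w) = orderOf (QuotientGroup.mk' Pb (QuotientGroup.mk' O ⟨y, hyN⟩)) := by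
    rw [MulEquiv.orderOf_eq, ← hw, orderOf_injective ψ hψi]
  have hlt := order_lt (φ w)
  rw [how] at hlt
  obtain ⟨k, hk⟩ : ∃ k, k = orderOf (QuotientGroup.mk' Pb (QuotientGroup.mk' O ⟨y, hyN⟩)) := ⟨_, rfl⟩
  rw [← hk] at hlt
  have hk0 : 0 < k := by rw [hk]; exact orderOf_pos _
  have hdvd : Fintype.card F - 1 ∣ 2 * k := by
    rw [← hoa]
    apply dvd_of_commute e hodd
    have h4 : (QuotientGroup.mk' Pb (QuotientGroup.mk' O ⟨y, hyN⟩)) ^ k = 1 := by rw [hk]; exact pow_orderOf_eq_one _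
    rw [← map_pow] at h4
    have h5 : (QuotientGroup.mk' O ⟨y, hyN⟩) ^ k ∈ Pb := (QuotientGroup.eq_one_iff _).1 h4
    rw [hPb, ← map_pow] at h5
    obtain ⟨u, hu, hu'⟩ := h5
    have h6 : u⁻¹ * (⟨y, hyN⟩ : N) ^ k ∈ O := QuotientGroup.eq.1 hu'
    have hx0N : x0 e ∈ N := hPN hxP
    have hx0P : (⟨x0 e, hx0N⟩ : N) ∈ PN := by rw [hPNd]; exact hxP
    have h7 : Commute (u⁻¹ * (⟨y, hyN⟩ : N) ^ k) ⟨x0 e, hx0N⟩ :=
      Subgroup.commute_of_normal_of_disjoint O PN hOn hPNn hdisj _ _ h6 hx0P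
    have h8 : Commute u ⟨x0 e, hx0N⟩ := by
      apply Subtype.ext
      have hu2 : (u : G) ∈ (P : Subgroup G) := by
        rw [hPNd] at hu
        exact hu
      exact (sylow_comm e hconj hF hodd hTp P hu2 hxP).eq
    have h9 : Commute ((⟨y, hyN⟩ : N) ^ k) ⟨x0 e, hx0N⟩ := by
      have h10 : (⟨y, hyN⟩ : N) ^ k = u * (u⁻¹ * (⟨y, hyN⟩ : N) ^ k) := by group
      rw [h10]
      exact h8.mul_left h7
    have h10 := congrArg Subtype.val h9.eq
    change y ^ k * x0 e = x0 e * y ^ k at h10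
    apply Subtype.ext
    rw [hy] at h10
    exact h10
  have hle := Nat.le_of_dvd (by omega) hdvd
  have h121 : 11 ^ 2 ≤ Fintype.card F := by
    rw [hF]
    exact Nat.pow_le_pow_right (by norm_num) h2
  norm_num at h121
  omega

end final

end Cfsg.Agent.H243.LB
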