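import Cfsg.Agent.H243.LB.Psl
import Cfsg.Agent.H723.Lb.TI

/-!
# S4879: the row `PSL₂(pⁿ)`, `n ≥ 2` (helper243)
-/

set_option autoImplicit false

namespace Cfsg.Agent.H243.LB

open Cfsg Subgroup

universe u

/-- **The row `PSL₂(pⁿ)`.** -/
theorem psl2_row {G : Type u} [Group G] [Finite G] {p : ℕ} [Fact p.Prime] {M : Ideal AlgInt} (hM : IsPModular p M)
    (hconj : H741.One.OneC p G) (T : Subgroup G) [T.Normal] (_hTC : ∀ g : G, (∀ t ∈ T, Commute g t) → g = 1)
    (hTp : ∀ x : G, (∃ k : ℕ, orderOf x = p ^ k) → x ∈ T) {F : Type} [Field F] [Fintype F] {n : ℕ}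
    (hF : Fintype.card F = p ^ n) (h2 : 2 ≤ n) (h3 : 3 ≤ p)
    (e : ↥T ≃* Matrix.ProjectiveSpecialLinearGroup (Fin 2) F) : p ≤ blockRank p (principalBlock M G) := by
  have hp : p.Prime := Fact.out
  have hodd : Odd (Fintype.card F) := by
    rw [hF]
    exact (hp.odd_of_ne_two (by omega)).pow
  have hz : IsPGroup p (zpowers (x0 e)) := by
    refine IsPGroup.of_card (n := 1) ?_
    rw [Nat.card_zpowers, order_x0 e hF, pow_one]
  obtain ⟨P, hP⟩ := hz.exists_le_sylow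
  have hti : H723.TI.TIs P := ti e hconj hF hodd hTp P
  exact psl2_of_rank hM hconj T hTp hF h2 h3 e P (hP (mem_zpowers _)) (H723.Lb.rank_ti hM P hti)
    (H723.Lb.oneClass_ti P hti hconj)

end Cfsg.Agent.H243.LB
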