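import Cfsg.Agent.H243.LB.ThFive
import Cfsg.Agent.H271.LB.PSolv
import Cfsg.Agent.Blocks.UniqueBlock

/-!
# S4879, the Thompson group and the prime 5: the principal block of the centralizer (helper243)

* `univ_of_centralizer_le` : a group with a normal `p`-subgroup containing its centralizer has one block;
* `th_loc` : the centralizer `C` of an element of order 5 in `Th`: the rank of its principal block is the number of its
  classes of 5-regular elements, and it has elements of order 1, 2, 3, 4, 6.
-/

set_option autoImplicit false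

namespace Cfsg.Agent.H243.LB

open Cfsg Subgroup

universe u

/-- A group with a normal `p`-subgroup containing its centralizer has one block. -/
theorem univ_of_centralizer_le {p : ℕ} {M : Ideal AlgInt} (hM : IsPModular p M) {C : Type u} [Group C] [Finite C]
    (Q : Subgroup C) [Q.Normal] (hQ : IsPGroup p Q) (hc : ∀ g : C, (∀ u ∈ Q, g * u = u * g) → g ∈ Q) :
    principalBlock M C = Set.univ := by
  rw [Set.eq_univ_iff_forall]
  intro χ
  exact Blocks.UniqueBlock.sameBlock_of_centralizer_le hM Q hQ
    (fun g hg => hc g fun u hu => (mem_centralizer_iff.1 hg u hu).symm)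
    ⟨fun _ => 1, Cfsg.Agent.Blocks.Basic.isIrrCharacter_one⟩ χ

/-- The rank of the principal block. -/
theorem rank_of_centralizer_le {p : ℕ} [Fact p.Prime] {M : Ideal AlgInt} (hM : IsPModular p M) {C : Type u} [Group C]
    [Finite C] (Q : Subgroup C) [Q.Normal] (hQ : IsPGroup p Q) (hc : ∀ g : C, (∀ u ∈ Q, g * u = u * g) → g ∈ Q) :
    blockRank p (principalBlock M C) = Nat.card (H697.Pk.PReg p C) := by
  rw [univ_of_centralizer_le hM Q hQ hc]
  exact H271.LB.blockRank_univ p

/-- **The centralizer of an element of order 5 of the Thompson group.** -/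
theorem th_loc {M : Ideal AlgInt} (hM : IsPModular 5 M) {T : Type u} [Group T] [Finite T] (h : Spor.IsoTh T) :
    ∃ x : T, orderOf x = 5 ∧
      blockRank 5 (principalBlock M ↥(centralizer ({x} : Set T))) =
        Nat.card (H697.Pk.PReg 5 ↥(centralizer ({x} : Set T))) ∧
      ∃ t : Fin 5 → ↥(centralizer ({x} : Set T)), (∀ i, ¬ 5 ∣ orderOf (t i)) ∧
        Function.Injective fun i => orderOf (t i) := by
  have : Fact (Nat.Prime 5) := ⟨by norm_num⟩
  obtain ⟨x, hx, Q, -, hQp, hQC, hn, hc, hs⟩ := th_five h
  refine ⟨x, hx, ?_, ?_⟩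
  · have hnorm : (Q.subgroupOf (centralizer ({x} : Set T))).Normal :=
      ⟨fun u hu g => by
        rw [mem_subgroupOf] at hu ⊢
        exact hn g (mem_centralizer_singleton_iff.1 g.2) u hu⟩
    refine rank_of_centralizer_le hM (Q.subgroupOf (centralizer ({x} : Set T))) ?_ ?_
    · exact hQp.of_equiv (Subgroup.subgroupOfEquivOfLe hQC).symm
    · intro g hg
      rw [mem_subgroupOf]
      refine hc g (mem_centralizer_singleton_iff.1 g.2) fun u hu => ?_
      exact congrArg Subtype.val (hg ⟨u, hQC hu⟩ hu)
  · have hs' : ∀ n ∈ ({2, 3, 4, 6} : Finset ℕ), ∃ s : ↥(centralizer ({x} : Set T)), orderOf s = n := by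
      intro n hnn
      obtain ⟨s, hsx, hsn⟩ := hs n hnn
      exact ⟨⟨s, mem_centralizer_singleton_iff.2 hsx⟩, by rw [Subgroup.orderOf_mk, hsn]⟩
    obtain ⟨s2, h2⟩ := hs' 2 (by simp)
    obtain ⟨s3, h3⟩ := hs' 3 (by simp)
    obtain ⟨s4, h4⟩ := hs' 4 (by simp)
    obtain ⟨s6, h6⟩ := hs' 6 (by simp)
    have key : ∀ i, orderOf ((![1, s2, s3, s4, s6] : Fin 5 → ↥(centralizer ({x} : Set T))) i) =
        (![1, 2, 3, 4, 6] : Fin 5 → ℕ) i := by
      intro i
      fin_cases i
      · exact orderOf_one
      · exact h2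
      · exact h3
      · exact h4
      · exact h6
    refine ⟨![1, s2, s3, s4, s6], ?_, ?_⟩
    · intro i
      rw [key]
      revert i
      decide
    · intro i j hij
      simp only [key] at hij
      revert i j
      decide

theorem centralizer_zpowers {T : Type u} [Group T] (x : T) :
    centralizer ((zpowers x : Subgroup T) : Set T) = centralizer ({x} : Set T) := by
  rw [zpowers_eq_closure, centralizer_closure]

/-- The same with a subgroup of order 5. -/
theorem th_loc' {M : Ideal AlgInt} (hM : IsPModular 5 M) {T : Type u} [Group T] [Finite T] (h : Spor.IsoTh T) :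
    ∃ Q : Subgroup T, IsPGroup 5 Q ∧
      blockRank 5 (principalBlock M ↥(centralizer (Q : Set T))) =
        Nat.card (H697.Pk.PReg 5 ↥(centralizer (Q : Set T))) ∧
      ∃ t : Fin 5 → ↥(centralizer (Q : Set T)), (∀ i, ¬ 5 ∣ orderOf (t i)) ∧
        Function.Injective fun i => orderOf (t i) := by
  obtain ⟨x, hx, h1⟩ := th_loc hM h
  refine ⟨zpowers x, IsPGroup.of_card (n := 1) (by rw [Nat.card_zpowers, hx, pow_one]), ?_⟩
  rw [centralizer_zpowers]
  exact h1

end Cfsg.Agent.H243.LB
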