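import Cfsg.Agent.H243.LB.ThLoc
import Cfsg.Agent.H319.LB.Stab

/-!
# S4879, the Thompson group and the prime 5: the row (helper243)
-/

set_option autoImplicit false

namespace Cfsg.Agent.H243.LB

open Cfsg Subgroup

universe u

/-- **The Thompson group and the prime 5.** -/
theorem th_row {M : Ideal AlgInt} (hM : IsPModular 5 M) {G : Type u} [Group G] [Finite G] (T : Subgroup G) [T.Normal]
    (e : Spor.IsoTh T) : 5 ≤ blockRank 5 (principalBlock M G) := by
  have : Fact (Nat.Prime 5) := ⟨by norm_num⟩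
  obtain ⟨Q, hQ, hr, t, ht, hinj⟩ := th_loc' hM e
  have h1 := H319.LB.stab hM T Q hQ t ht (by
    intro i j hij hc
    apply hij
    apply hinj
    obtain ⟨g, hg⟩ := isConj_iff.1 hc
    have h2 : orderOf (g * (((t i : ↥(centralizer (Q : Set ↥T))) : ↥T) : G) * g⁻¹) =
        orderOf (((t i : ↥(centralizer (Q : Set ↥T))) : ↥T) : G) :=
      orderOf_injective (MulAut.conj g).toMonoidHom (MulAut.conj g).injective _
    rw [hg] at h2
    change orderOf (t i) = orderOf (t j)
    rw [← Subgroup.orderOf_coe, ← Subgroup.orderOf_coe (t i : ↥T), ← h2, Subgroup.orderOf_coe, Subgroup.orderOf_coe])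
  rw [hr] at h1
  omega

end Cfsg.Agent.H243.LB
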